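import Cfsg.Agent.H596.FldFacts
import Cfsg.Agent.H277.ClsPsu

/-!
# S4761, row `PSU_n(q)` (task 3011, helper322)
-/

set_option autoImplicit false

namespace Cfsg.Agent.H322.Mv

open Cfsg Cfsg.Agent.H277.Cls Cfsg.Agent.H277.ClsPsu Cfsg.Agent.H202.Psu Cfsg.Agent.Schreier.PSU
  Cfsg.Agent.H596.Fld

/-- prime divisors of `|GU_n(q₀)|` -/
theorem dvd_of_dvd_card_GU {F₀ : Type*} [Field F₀] [Fintype F₀] {q₀ n s r : ℕ} (hF₀ : Fintype.card F₀ = q₀ ^ 2)
    (hs : s.Prime) (hsq : ¬ s ∣ q₀) (hr : r.Prime) (hr2 : r ≠ 2) (h : ∀ i, s ∣ q₀ ^ i - 1 → r ∣ i)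
    (hd : s ∣ Nat.card (GU n F₀ q₀)) : r ≤ n := by
  rw [S0277.result hF₀ n] at hd
  rcases hs.dvd_mul.1 hd with h1 | h1
  · exact absurd (hs.dvd_of_dvd_pow h1) hsq
  obtain ⟨i, hi, h2⟩ := (hs.prime.dvd_finsetProd_iff _).1 h1
  rw [Finset.mem_range] at hi
  have h3 : s ∣ q₀ ^ (2 * (i + 1)) - 1 := by
    have h4 : q₀ ^ (2 * (i + 1)) - 1 = (q₀ ^ (i + 1) + 1) * (q₀ ^ (i + 1) - 1) := by
      have := Nat.sq_sub_sq (q₀ ^ (i + 1)) 1
      rw [one_pow, ← pow_mul] at this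
      rw [mul_comm 2]
      exact this
    rw [h4]
    split_ifs at h2
    · exact h2.mul_right _
    · exact h2.mul_left _
  have h4 : r ∣ i + 1 := by
    rcases hr.dvd_mul.1 (h _ h3) with h5 | h5
    · exact absurd ((Nat.prime_dvd_prime_iff_eq hr Nat.prime_two).1 h5) hr2
    · exact h5
  have := Nat.le_of_dvd (by omega) h4
  omega

theorem two_dvd_card_psu {F : Type*} [Field F] [Fintype F] {n q : ℕ} (hF : Fintype.card F = q ^ 2) (hn : 3 ≤ n) :
    2 ∣ Nat.card (PSU n F q) := by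
  have hc := card_psu hF hn
  have h1 : 2 ∣ Nat.gcd n (q + 1) * Nat.card (PSU n F q) := by
    rw [hc]
    rcases Nat.even_or_odd q with hq | hq
    · refine (dvd_pow hq.two_dvd ?_).mul_right _
      have h4 : 3 * 2 ≤ n * (n - 1) := Nat.mul_le_mul hn (by omega)
      have h5 : 6 / 2 ≤ n * (n - 1) / 2 := Nat.div_le_div_right h4
      omega
    · refine Dvd.dvd.mul_left ?_ _
      refine dvd_trans ?_ (Finset.dvd_prod_of_mem _ (Finset.mem_range.2 (show 0 < n - 1 by omega)))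
      rw [if_pos (by decide)]
      obtain ⟨k, rfl⟩ := hq
      exact ⟨2 * k * k + 2 * k, by
        have : (2 * k + 1) ^ (0 + 2) = 2 * (2 * k * k + 2 * k) + 1 := by ring
        rw [this, Nat.add_sub_cancel]⟩
  rcases Nat.prime_two.dvd_mul.1 h1 with h2 | h2
  · exact dvd_of_dvd_gcd hF hn Nat.prime_two h2
  · exact h2

theorem twoMoved_psu {F : Type} [Field F] [Fintype F] {p : ℕ} [CharP F p] {n q : ℕ}
    (hF : Fintype.card F = q ^ 2) (hn : 3 ≤ n) (h32 : ¬ (n = 3 ∧ q = 2))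
    (hZ : Subgroup.center (PSU n F q) = ⊥) : TwoMoved (PSU n F q) := by
  intro α hr hd
  have h2K := two_dvd_card_psu hF hn
  have hpp : p.Prime := CharP.char_is_prime F p
  have : Fact p.Prime := ⟨hpp⟩
  have hfin : Finite (PSU n F q) := Quotient.finite _
  have hr2 : orderOf α ≠ 2 := fun h => hd (h ▸ h2K)
  have hα : (orderOf α).Coprime (Nat.card (PSU n F q)) := (hr.coprime_iff_not_dvd).2 hd
  obtain ⟨k, -, hk⟩ := FiniteField.card F p
  obtain ⟨f, -, hq⟩ := (Nat.dvd_prime_pow hpp).1 (show q ∣ p ^ (k : ℕ) by rw [← hk, hF]; exact dvd_pow_self q (by norm_num))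
  have hFp : Fintype.card F = p ^ (2 * f) := by rw [hF, hq, ← pow_mul, mul_comm]
  have hf : f ≠ 0 := by
    rintro rfl
    have := Fintype.one_lt_card (α := F)
    rw [hFp, mul_zero, pow_zero] at this
    omega
  have hcard : Nat.card (MulAut (PSU n F q)) ∣ Nat.gcd n (q + 1) * (2 * f) * Nat.card (PSU n F q) := by
    rw [S0815.result p f (by omega) hq hF n hn h32]
  obtain ⟨g, σ, hg, hσ, hσr, hrf⟩ := exists_field hZ (Schreier.PSU.sch hF hn h32) hFp f₂ (f₂_injective hF hn) hcard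
    (fun s hs hsd => dvd_of_dvd_gcd hF hn hs hsd) hr hα
  have hro : Odd (orderOf α) := hr.odd_of_ne_two hr2
  have hcl : IsFieldAutClassPSU α := ⟨g, f₂ σ, σ, hσ, by rw [hσr]; exact hro, (isFieldAut_iff _ _).2 rfl, hg⟩
  have hrf' : orderOf α ∣ f := by
    rcases (hr.dvd_mul).1 hrf with h | h
    · exact absurd ((Nat.prime_dvd_prime_iff_eq hr Nat.prime_two).1 h) hr2
    · exact h
  obtain ⟨-, -, -, -, -, hj, hq₀, hpow⟩ := exists_subfield (p := p) hf hr hrf'
  obtain ⟨F₀, _, _, _, hF₀, -, -, -⟩ := exists_subfield (p := p) (f := 2 * f) (by omega) hr hrf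
  have hF₀' : Fintype.card F₀ = p ^ (2 * (f / orderOf α)) := by rw [hF₀, Nat.mul_div_assoc _ hrf']
  obtain ⟨-, hiso, -⟩ := S2705.result hq (by omega) hF hn h32 α hcl hr hro rfl F₀ hF₀'
  set q₀ := p ^ (f / orderOf α) with hq₀d
  set r := orderOf α with hrd
  have hqr : q₀ ^ r = q := by rw [hpow, hq]
  have hF₀q : Fintype.card F₀ = q₀ ^ 2 := by rw [hF₀', hq₀d, ← pow_mul, mul_comm]
  have hc := card_psu hF hn
  obtain ⟨m, rfl⟩ := Nat.exists_eq_add_of_le' hn
  have hq2 : q ^ 2 - 1 ∣ Nat.gcd (m + 3) (q + 1) * Nat.card (PSU (m + 3) F q) := by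
    rw [hc, show m + 3 - 1 = m + 1 + 1 by omega, Finset.prod_range_succ']
    rw [if_pos (by decide)]
    exact (dvd_mul_left _ _).mul_left _
  have hdv : ∀ s : ℕ, s.Prime → s ∣ Nat.gcd (m + 3) (q + 1) * Nat.card (PSU (m + 3) F q) →
      s ∣ Nat.card (PSU (m + 3) F q) := by
    intro s hs h
    rcases hs.dvd_mul.1 h with h1 | h1
    · exact dvd_of_dvd_gcd hF hn hs h1
    · exact h1
  have hq21 : q ^ 2 - 1 = (q + 1) * (q - 1) := by
    have := Nat.sq_sub_sq q 1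
    rwa [one_pow] at this
  have hm1 : ∀ s : ℕ, s.Prime → s ∣ q - 1 → s ∣ Nat.card (PSU (m + 3) F q) := fun s hs h =>
    hdv s hs ((h.trans (by rw [hq21]; exact dvd_mul_left _ _)).trans hq2)
  have hp1 : ∀ s : ℕ, s.Prime → s ∣ q + 1 → s ∣ Nat.card (PSU (m + 3) F q) := fun s hs h =>
    hdv s hs ((h.trans (by rw [hq21]; exact dvd_mul_right _ _)).trans hq2)
  obtain ⟨s₁, s₂, hs₁, hs₂, hne, hd₁, hd₂, ho₁, ho₂, hn₁, hn₂⟩ := exists_primes hr hr2 hq₀
    (fun h => hd (hm1 r hr (by rw [← hqr]; exact h))) (fun h => hd (hp1 r hr (by rw [← hqr]; exact h)))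
  have key : ∀ s : ℕ, s.Prime → ¬ s ∣ q₀ → (∀ i, s ∣ q₀ ^ i - 1 → r ∣ i) → ¬ s ∣ Nat.card (fx α) := by
    intro s hs hsq ho hcon
    have h1 : s ∣ Nat.card (PGU (m + 3) F₀ q₀) := hcon.trans (card_fx_dvd hZ (H := inndiagPSU (m + 3) F q)
      (fun x => Cfsg.Agent.H202.PsuCount.inn_le hF ⟨x, rfl⟩) hiso)
    have h2 : s ∣ Nat.card (GU (m + 3) F₀ q₀) := h1.trans (Subgroup.card_quotient_dvd_card _)
    have h3 := dvd_of_dvd_card_GU hF₀q hs hsq hr hr2 ho h2
    apply hd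
    apply hdv r hr
    rw [hc]
    by_cases hrq : r ∣ q
    · exact (dvd_pow hrq (by
        have h4 : 3 * 2 ≤ (m + 3) * (m + 3 - 1) := Nat.mul_le_mul (by omega) (by omega)
        have h5 : 6 / 2 ≤ (m + 3) * (m + 3 - 1) / 2 := Nat.div_le_div_right h4
        omega)).mul_right _
    · refine Dvd.dvd.mul_left ?_ _
      have hr3 : 3 ≤ r := by have := hr.two_le; omega
      obtain ⟨j, hj3⟩ : ∃ j, r = 2 * j + 3 := by
        obtain ⟨j, hj⟩ := hro
        exact ⟨j - 1, by omega⟩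
      refine dvd_trans ?_ (Finset.dvd_prod_of_mem _ (Finset.mem_range.2 (show 2 * j < m + 3 - 1 by omega)))
      rw [if_pos (even_two_mul j)]
      have hF' : Fact r.Prime := ⟨hr⟩
      have h4 : ((q : ZMod r)) ≠ 0 := by
        rw [Ne, ZMod.natCast_eq_zero_iff]; exact hrq
      have h5 := ZMod.pow_card_sub_one_eq_one h4
      rw [dvd_pow_sub_one_iff (by rcases Nat.eq_zero_or_pos q with h0 | h0; · exact absurd (h0 ▸ dvd_zero r) hrq
                                  · exact h0)]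
      rw [show 2 * j + 2 = r - 1 by omega]
      exact h5
  refine moved_of_primes hr hd hs₁ hs₂ hne (hm1 s₁ hs₁ (by rw [← hqr]; exact hd₁)) (hp1 s₂ hs₂ (by rw [← hqr]; exact hd₂))
    (key s₁ hs₁ hn₁ ho₁) (key s₂ hs₂ hn₂ fun i hi => (dvd_mul_left r 2).trans (ho₂ i hi))

/-- **Row `PSU_n(q)`** -/
theorem row_psu {r : ℕ} {G : Type*} [Group G] [Finite G] [IsSimpleGroup G] (hc : ∃ a b : G, a * b ≠ b * a)
    (hG : IsPSUChar r G) : TwoMoved G := by
  obtain ⟨F, _, _, hchar, n, q, hF, hn, h32, ⟨e⟩⟩ := hG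
  have hZ0 : Subgroup.center G = ⊥ := by
    rcases (inferInstance : (Subgroup.center G).Normal).eq_bot_or_eq_top with h | h
    · exact h
    · obtain ⟨a, b, hab⟩ := hc
      exact absurd ((Subgroup.mem_center_iff.1 (show b ∈ Subgroup.center G by rw [h]; trivial)) a) hab
  have hZ : Subgroup.center (PSU n F q) = ⊥ := by
    rw [eq_bot_iff]
    intro x hx
    rw [Subgroup.mem_bot]
    apply e.symm.injective
    rw [map_one]
    have : e.symm x ∈ Subgroup.center G := by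
      rw [Subgroup.mem_center_iff]
      intro y
      apply e.injective
      rw [map_mul, map_mul, e.apply_symm_apply]
      exact Subgroup.mem_center_iff.1 hx (e y)
    rw [hZ0] at this
    exact Subgroup.mem_bot.1 this
  exact TwoMoved.congr e (twoMoved_psu hF hn h32 hZ)

end Cfsg.Agent.H322.Mv
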